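import Mathlib
import Groth.Agent.Lib.Helper6.GLChar.GL
import Groth.Agent.Lib.Helper6.GLChar.Main

set_option linter.unusedSectionVars false
set_option linter.unusedVariables false
set_option autoImplicit false
set_option maxHeartbeats 400000

noncomputable section

namespace Groth.Agent.Lib.Helper6.GLUnits

open Matrix Groth.Agent.Lib.Helper6.GLChar

universe u

variable (n : ℕ) (K : Type u) [CommRing K]

/-- the polynomial ring in the matrix entries -/
abbrev PX : Type u := MvPolynomial (Fin n × Fin n) K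

/-- the generic determinant -/
abbrev Dt : PX n K := (Matrix.mvPolynomialX (Fin n) (Fin n) K).det

/-- the coordinate ring of `GL_n` -/
abbrev OG : Type u := Localization.Away (Dt n K)

variable {n K}
variable {B : Type u} [CommRing B] {C : Type u} [CommRing C]

/-- evaluation of polynomials at a matrix -/
def ptP (σ : K →+* B) (M : Matrix (Fin n) (Fin n) B) : PX n K →+* B :=
  MvPolynomial.eval₂Hom σ (fun ij => M ij.1 ij.2)

theorem ptP_X (σ : K →+* B) (M : Matrix (Fin n) (Fin n) B) (i j : Fin n) :
    ptP σ M (MvPolynomial.X (i, j)) = M i j := by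
  simp [ptP]

theorem ptP_C (σ : K →+* B) (M : Matrix (Fin n) (Fin n) B) (a : K) :
    ptP σ M (MvPolynomial.C a) = σ a := by
  simp [ptP]

theorem ptP_det (σ : K →+* B) (M : Matrix (Fin n) (Fin n) B) :
    ptP σ M (Dt n K) = M.det := by
  rw [Dt, RingHom.map_det]
  congr 1
  ext i j
  simp [ptP]

/-- the point of `GL_n` given by an invertible matrix -/
def pt (σ : K →+* B) (g : GLn n B) : OG n K →+* B :=
  IsLocalization.Away.lift (Dt n K) (g := ptP σ (g : Matrix (Fin n) (Fin n) B)) (by
    rw [ptP_det]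
    exact (Matrix.isUnit_iff_isUnit_det _).1 g.isUnit)

theorem pt_algebraMap (σ : K →+* B) (g : GLn n B) (p : PX n K) :
    pt σ g (algebraMap (PX n K) (OG n K) p) = ptP σ (g : Matrix (Fin n) (Fin n) B) p :=
  IsLocalization.Away.lift_eq _ _ _

theorem pt_X (σ : K →+* B) (g : GLn n B) (i j : Fin n) :
    pt σ g (algebraMap (PX n K) (OG n K) (MvPolynomial.X (i, j))) = g i j := by
  rw [pt_algebraMap, ptP_X]

theorem algebraMap_K (a : K) :
    algebraMap K (OG n K) a = algebraMap (PX n K) (OG n K) (MvPolynomial.C a) := by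
  rw [IsScalarTower.algebraMap_apply K (PX n K) (OG n K), MvPolynomial.algebraMap_eq]

theorem pt_K (σ : K →+* B) (g : GLn n B) (a : K) :
    pt σ g (algebraMap K (OG n K) a) = σ a := by
  rw [algebraMap_K, pt_algebraMap, ptP_C]

theorem pt_comp_algebraMap (σ : K →+* B) (g : GLn n B) :
    (pt σ g).comp (algebraMap K (OG n K)) = σ :=
  RingHom.ext fun a => pt_K σ g a

theorem hom_ext {φ ψ : OG n K →+* B}
    (hC : ∀ a : K, φ (algebraMap K (OG n K) a) = ψ (algebraMap K (OG n K) a))
    (hX : ∀ i j, φ (algebraMap (PX n K) (OG n K) (MvPolynomial.X (i, j))) =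
      ψ (algebraMap (PX n K) (OG n K) (MvPolynomial.X (i, j)))) : φ = ψ := by
  apply IsLocalization.ringHom_ext (Submonoid.powers (Dt n K))
  apply MvPolynomial.ringHom_ext
  · intro a
    have := hC a
    rw [algebraMap_K] at this
    exact this
  · rintro ⟨i, j⟩
    exact hX i j

theorem comp_pt (ψ : B →+* C) (σ : K →+* B) (g : GLn n B) :
    ψ.comp (pt σ g) = pt (ψ.comp σ) (Matrix.GeneralLinearGroup.map ψ g) := by
  apply hom_ext
  · intro a
    rw [RingHom.comp_apply, pt_K, pt_K, RingHom.comp_apply]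
  · intro i j
    rw [RingHom.comp_apply, pt_X, pt_X]
    rfl

theorem comp_pt_apply (ψ : B →+* C) (σ : K →+* B) (g : GLn n B) (x : OG n K) :
    ψ (pt σ g x) = pt (ψ.comp σ) (Matrix.GeneralLinearGroup.map ψ g) x := by
  rw [← comp_pt]
  rfl

variable (n K) in
/-- the generic matrix over the coordinate ring -/
def genM : Matrix (Fin n) (Fin n) (OG n K) :=
  (algebraMap (PX n K) (OG n K)).mapMatrix (Matrix.mvPolynomialX (Fin n) (Fin n) K)

theorem det_genM : (genM n K).det = algebraMap (PX n K) (OG n K) (Dt n K) := by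
  rw [genM, ← RingHom.map_det]

variable (n K) in
/-- the generic point -/
def Ggen : GLn n (OG n K) :=
  Matrix.GeneralLinearGroup.mk'' (genM n K) (by
    rw [det_genM]
    exact IsLocalization.Away.algebraMap_isUnit (Dt n K))

theorem Ggen_val : ((Ggen n K : GLn n (OG n K)) : Matrix (Fin n) (Fin n) (OG n K)) = genM n K :=
  rfl

theorem Ggen_apply (i j : Fin n) :
    (Ggen n K) i j = algebraMap (PX n K) (OG n K) (MvPolynomial.X (i, j)) := rfl

theorem pt_Ggen : pt (algebraMap K (OG n K)) (Ggen n K) = RingHom.id (OG n K) := by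
  apply hom_ext
  · intro a
    rw [pt_K]
    rfl
  · intro i j
    rw [pt_X, Ggen_apply]
    rfl

theorem map_pt_Ggen (σ : K →+* B) (g : GLn n B) :
    Matrix.GeneralLinearGroup.map (pt σ g) (Ggen n K) = g := by
  apply Units.ext
  ext i j
  show pt σ g ((Ggen n K) i j) = g i j
  rw [Ggen_apply, pt_X]

theorem det_Ggen :
    ((Matrix.GeneralLinearGroup.det (Ggen n K) : (OG n K)ˣ) : OG n K) =
      algebraMap (PX n K) (OG n K) (Dt n K) := by
  rw [Matrix.GeneralLinearGroup.val_det_apply, Ggen_val, det_genM]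

/-- the value of a unit at a point is a unit -/
theorem isUnit_pt (σ : K →+* B) (g : GLn n B) (u : (OG n K)ˣ) : IsUnit (pt σ g (u : OG n K)) :=
  (u.isUnit).map (pt σ g)

instance [IsDomain K] : IsDomain (OG n K) :=
  IsLocalization.isDomain_localization
    (powers_le_nonZeroDivisors_of_noZeroDivisors (Matrix.det_mvPolynomialX_ne_zero (Fin n) K))

theorem algebraMap_PX_injective [IsDomain K] :
    Function.Injective (algebraMap (PX n K) (OG n K)) :=
  IsLocalization.injective (OG n K)
    (powers_le_nonZeroDivisors_of_noZeroDivisors (Matrix.det_mvPolynomialX_ne_zero (Fin n) K))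

end Groth.Agent.Lib.Helper6.GLUnits
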