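import Mathlib
import Groth.Agent.Lib.Helper6.GLUnits.Basic

set_option linter.unusedSectionVars false
set_option linter.unusedVariables false
set_option autoImplicit false
set_option maxHeartbeats 400000

noncomputable section

namespace Groth.Agent.Lib.Helper6.GLUnits

open Matrix Groth.Agent.Lib.Helper6.GLChar

universe u

section Laurent

open LaurentPolynomial Polynomial

/-- units of the Laurent polynomial ring over a domain are monomials -/
theorem laurent_unit {R : Type u} [CommRing R] [IsDomain R] (w : R[T;T⁻¹]) (hw : IsUnit w) :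
    ∃ (c : R) (e : ℤ), w = LaurentPolynomial.C c * T e := by
  obtain ⟨v, hv⟩ := hw.exists_right_inv
  obtain ⟨a, f, hf⟩ := LaurentPolynomial.exists_T_pow w
  obtain ⟨b, g, hg⟩ := LaurentPolynomial.exists_T_pow v
  have h1 : toLaurent (f * g) = toLaurent ((X : R[X]) ^ (a + b)) := by
    rw [map_mul, hf, hg, Polynomial.toLaurent_X_pow]
    calc w * T ↑a * (v * T ↑b) = (w * v) * (T ↑a * T ↑b) := by ring
      _ = T ((a + b : ℕ) : ℤ) := by rw [hv, one_mul, ← T_add]; push_cast; rfl
  have hfg : f * g = 1 * (X : R[X]) ^ (a + b) := by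
    rw [one_mul]; exact Polynomial.toLaurent_injective h1
  obtain ⟨i, j, b', c', hij, hbc, hfb, hgc⟩ := mul_eq_mul_prime_pow Polynomial.prime_X hfg
  have hb' : IsUnit b' := IsUnit.of_mul_eq_one c' hbc.symm
  obtain ⟨r, hr, hrb⟩ := Polynomial.isUnit_iff.mp hb'
  refine ⟨r, (i : ℤ) - a, ?_⟩
  have h2 : w * T ↑a = LaurentPolynomial.C r * T ↑i := by
    rw [← hf, hfb, ← hrb, map_mul, Polynomial.toLaurent_C, Polynomial.toLaurent_X_pow]
  calc w = w * T ↑a * T (-(a : ℤ)) := by
        rw [mul_assoc, ← T_add, add_neg_cancel, T_zero, mul_one]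
    _ = LaurentPolynomial.C r * T ((i : ℤ) - a) := by
        rw [h2, mul_assoc, ← T_add, sub_eq_add_neg]

end Laurent

variable {n : ℕ} {K : Type u} [CommRing K]

theorem Tr_zero (B : Type u) [CommRing B] (i j : Fin n) (hij : i ≠ j) : Tr B i j hij 0 = 1 := by
  apply Units.ext
  rw [Tr_val]
  exact Matrix.transvection_zero i j

section Domain

variable [IsDomain K]

/-- units are invariant under right translation by transvections -/
theorem pt_mul_Tr (u : (OG n K)ˣ) {B : Type u} [CommRing B] (σ : K →+* B) (g : GLn n B)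
    (i j : Fin n) (hij : i ≠ j) (t : B) :
    pt σ (g * Tr B i j hij t) (u : OG n K) = pt σ g (u : OG n K) := by
  let L := Polynomial (OG n K)
  let σ' : K →+* L := (Polynomial.C : OG n K →+* L).comp (algebraMap K (OG n K))
  let g' : GLn n L := Matrix.GeneralLinearGroup.map (Polynomial.C : OG n K →+* L) (Ggen n K) *
    Tr L i j hij Polynomial.X
  have hw : IsUnit (pt σ' g' (u : OG n K)) := isUnit_pt _ _ u
  obtain ⟨w₀, hw₀, hww⟩ := Polynomial.isUnit_iff.mp hw
  have key : ∀ {B : Type u} [CommRing B] (σ : K →+* B) (g : GLn n B) (t : B),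
      Polynomial.eval₂RingHom (pt σ g) t (pt σ' g' (u : OG n K)) =
        pt σ (g * Tr B i j hij t) (u : OG n K) := by
    intro B _ σ g t
    rw [comp_pt_apply]
    have e1 : (Polynomial.eval₂RingHom (pt σ g) t).comp σ' = σ := by
      ext a
      show Polynomial.eval₂ (pt σ g) t (Polynomial.C (algebraMap K (OG n K) a)) = σ a
      rw [Polynomial.eval₂_C, pt_K]
    have e3 : (Polynomial.eval₂RingHom (pt σ g) t).comp (Polynomial.C : OG n K →+* L) =
        pt σ g := by
      ext a
      show Polynomial.eval₂ (pt σ g) t (Polynomial.C a) = pt σ g a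
      rw [Polynomial.eval₂_C]
    have e2 : Matrix.GeneralLinearGroup.map (Polynomial.eval₂RingHom (pt σ g) t) g' =
        g * Tr B i j hij t := by
      show Matrix.GeneralLinearGroup.map (Polynomial.eval₂RingHom (pt σ g) t)
        (Matrix.GeneralLinearGroup.map (Polynomial.C : OG n K →+* L) (Ggen n K) *
          Tr L i j hij Polynomial.X) = _
      rw [map_mul, map_Tr]
      have : Matrix.GeneralLinearGroup.map (Polynomial.eval₂RingHom (pt σ g) t)
          (Matrix.GeneralLinearGroup.map (Polynomial.C : OG n K →+* L) (Ggen n K)) =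
          Matrix.GeneralLinearGroup.map ((Polynomial.eval₂RingHom (pt σ g) t).comp
            (Polynomial.C : OG n K →+* L)) (Ggen n K) := rfl
      rw [this, e3, map_pt_Ggen]
      congr 2
      exact Polynomial.eval₂_X _ _
    rw [e1, e2]
  have h0 := key (algebraMap K (OG n K)) (Ggen n K) 0
  rw [Tr_zero, mul_one, pt_Ggen, ← hww] at h0
  have hw0 : w₀ = (u : OG n K) := by
    have : Polynomial.eval₂RingHom (RingHom.id (OG n K)) 0 (Polynomial.C w₀) = w₀ := by
      show Polynomial.eval₂ (RingHom.id (OG n K)) 0 (Polynomial.C w₀) = w₀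
      rw [Polynomial.eval₂_C]; rfl
    rw [this] at h0
    exact h0
  rw [← key σ g t, ← hww, hw0]
  show Polynomial.eval₂ (pt σ g) t (Polynomial.C (u : OG n K)) = _
  rw [Polynomial.eval₂_C]

open LaurentPolynomial in
/-- units are semi-invariant under right translation by the elementary diagonal matrices -/
theorem exists_exp (u : (OG n K)ˣ) (i : Fin n) :
    ∃ e : ℤ, ∀ {B : Type u} [CommRing B] (σ : K →+* B) (g : GLn n B) (s : Bˣ),
      pt σ (g * Dhom B i s) (u : OG n K) = pt σ g (u : OG n K) * ((s ^ e : Bˣ) : B) := by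
  let L := LaurentPolynomial (OG n K)
  let σ' : K →+* L := (LaurentPolynomial.C : OG n K →+* L).comp (algebraMap K (OG n K))
  let g' : GLn n L :=
    Matrix.GeneralLinearGroup.map (LaurentPolynomial.C : OG n K →+* L) (Ggen n K) *
      Dhom L i (Tu (OG n K) 1)
  have hw : IsUnit (pt σ' g' (u : OG n K)) := isUnit_pt _ _ u
  obtain ⟨w₀, e, hww⟩ := laurent_unit _ hw
  have key : ∀ {B : Type u} [CommRing B] (σ : K →+* B) (g : GLn n B) (s : Bˣ),
      LaurentPolynomial.eval₂ (pt σ g) s (pt σ' g' (u : OG n K)) =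
        pt σ (g * Dhom B i s) (u : OG n K) := by
    intro B _ σ g s
    rw [comp_pt_apply]
    have e1 : (LaurentPolynomial.eval₂ (pt σ g) s).comp σ' = σ := by
      ext a
      show LaurentPolynomial.eval₂ (pt σ g) s (LaurentPolynomial.C (algebraMap K (OG n K) a)) =
        σ a
      rw [LaurentPolynomial.eval₂_C, pt_K]
    have e3 : (LaurentPolynomial.eval₂ (pt σ g) s).comp (LaurentPolynomial.C : OG n K →+* L) =
        pt σ g := by
      ext a
      show LaurentPolynomial.eval₂ (pt σ g) s (LaurentPolynomial.C a) = pt σ g a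
      rw [LaurentPolynomial.eval₂_C]
    have e2 : Matrix.GeneralLinearGroup.map (LaurentPolynomial.eval₂ (pt σ g) s) g' =
        g * Dhom B i s := by
      show Matrix.GeneralLinearGroup.map (LaurentPolynomial.eval₂ (pt σ g) s)
        (Matrix.GeneralLinearGroup.map (LaurentPolynomial.C : OG n K →+* L) (Ggen n K) *
          Dhom L i (Tu (OG n K) 1)) = _
      rw [map_mul, map_Dhom]
      have : Matrix.GeneralLinearGroup.map (LaurentPolynomial.eval₂ (pt σ g) s)
          (Matrix.GeneralLinearGroup.map (LaurentPolynomial.C : OG n K →+* L) (Ggen n K)) =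
          Matrix.GeneralLinearGroup.map ((LaurentPolynomial.eval₂ (pt σ g) s).comp
            (LaurentPolynomial.C : OG n K →+* L)) (Ggen n K) := rfl
      rw [this, e3, map_pt_Ggen]
      congr 2
      apply Units.ext
      show LaurentPolynomial.eval₂ (pt σ g) s (T 1) = s
      rw [LaurentPolynomial.eval₂_T, zpow_one]
    rw [e1, e2]
  have h0 := key (algebraMap K (OG n K)) (Ggen n K) 1
  rw [map_one, mul_one, pt_Ggen, hww, LaurentPolynomial.eval₂_C_mul_T, _root_.one_zpow,
    Units.val_one, mul_one] at h0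
  have hw0 : w₀ = (u : OG n K) := h0
  refine ⟨e, ?_⟩
  intro B _ σ g s
  rw [← key σ g s, hww, LaurentPolynomial.eval₂_C_mul_T, hw0]

end Domain

end Groth.Agent.Lib.Helper6.GLUnits
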