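import Mathlib
import Groth.Agent.Lib.Helper6.GLUnits.Domain

set_option linter.unusedSectionVars false
set_option linter.unusedVariables false
set_option autoImplicit false
set_option maxHeartbeats 400000

noncomputable section

namespace Groth.Agent.Lib.Helper6.GLUnits

open Matrix Groth.Agent.Lib.Helper6.GLChar

universe u

variable {n : ℕ} {K : Type u} [CommRing K]

/-- the submonoid of right-semi-invariant elements -/
def semiInv (u : (OG n K)ˣ) (B : Type u) [CommRing B] : Submonoid (GLn n B) where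
  carrier := {h | ∃ lam : B, ∀ (σ : K →+* B) (g : GLn n B),
    pt σ (g * h) (u : OG n K) = pt σ g (u : OG n K) * lam}
  one_mem' := ⟨1, fun σ g => by rw [mul_one, mul_one]⟩
  mul_mem' := by
    rintro a c ⟨la, ha⟩ ⟨lc, hc⟩
    exact ⟨la * lc, fun σ g => by rw [← mul_assoc, hc, ha, mul_assoc]⟩

/-- the submonoid of elements on which `u` transforms by `det ^ e` -/
def detInv (u : (OG n K)ˣ) (e : ℤ) (B : Type u) [CommRing B] : Submonoid (GLn n B) where
  carrier := {h | ∀ (σ : K →+* B) (g : GLn n B),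
    pt σ (g * h) (u : OG n K) =
      pt σ g (u : OG n K) * ((Matrix.GeneralLinearGroup.det h ^ e : Bˣ) : B)}
  one_mem' := fun σ g => by
    show pt σ (g * 1) (u : OG n K) = _
    rw [mul_one, map_one, _root_.one_zpow, Units.val_one, mul_one]
  mul_mem' := by
    intro a c ha hc σ g
    show pt σ (g * (a * c)) (u : OG n K) = _
    have h1 : (Matrix.GeneralLinearGroup.det (a * c)) ^ e =
        Matrix.GeneralLinearGroup.det a ^ e * Matrix.GeneralLinearGroup.det c ^ e := by
      rw [map_mul]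
      exact mul_zpow _ _ e
    rw [← mul_assoc, hc, ha, mul_assoc, h1, Units.val_mul]

theorem diagU_mem_of {B : Type u} [CommRing B] (S : Submonoid (GLn n B))
    (h : ∀ (k : Fin n) (s : Bˣ), Dhom B k s ∈ S) (d : Fin n → Bˣ) : diagU B d ∈ S := by
  have h1 : d = ∏ k, Pi.mulSingle k (d k) := (Finset.univ_prod_mulSingle d).symm
  have h2 : (∏ k, Pi.mulSingle k (d k) : Fin n → Bˣ) ∈ S.comap (diagU B) :=
    Submonoid.prod_mem _ (fun k _ => h k (d k))
  rw [h1]
  exact h2

theorem mem_of_local {F : Type u} [CommRing F] [IsLocalRing F] (S : Submonoid (GLn n F))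
    (hT : ∀ (i j : Fin n) (hij : i ≠ j) (c : F), Tr F i j hij c ∈ S)
    (hD : ∀ (k : Fin n) (s : Fˣ), Dhom F k s ∈ S) (h : GLn n F) : h ∈ S := by
  let P : Matrix (Fin n) (Fin n) F → Prop := fun M =>
    ∀ g : GLn n F, (g : Matrix (Fin n) (Fin n) F) = M → g ∈ S
  have hP : P (h : Matrix (Fin n) (Fin n) F) := by
    refine local_transvection_induction P ?_ ?_ ?_ _ h.isUnit
    · intro i j hij c g hg
      have : g = Tr F i j hij c := Units.ext hg
      rw [this]
      exact hT i j hij c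
    · intro A C hA hC g hg
      have hdet : IsUnit (A.det * C.det) := by
        rw [← Matrix.det_mul, ← hg]
        exact (Matrix.isUnit_iff_isUnit_det _).1 g.isUnit
      have hAu : IsUnit A := (Matrix.isUnit_iff_isUnit_det _).2 (isUnit_of_mul_isUnit_left hdet)
      have hCu : IsUnit C := (Matrix.isUnit_iff_isUnit_det _).2 (isUnit_of_mul_isUnit_right hdet)
      have hgg : g = hAu.unit * hCu.unit := Units.ext (by rw [hg]; rfl)
      rw [hgg]
      exact S.mul_mem (hA hAu.unit rfl) (hC hCu.unit rfl)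
    · intro D hD' g hg
      have : g = diagU F (fun i => (hD' i).unit) := Units.ext (by rw [hg, diagU_val]; rfl)
      rw [this]
      exact diagU_mem_of S hD _
  exact hP h rfl

section Domain

variable [IsDomain K]

theorem Tr_mem_semiInv (u : (OG n K)ˣ) (B : Type u) [CommRing B] (i j : Fin n) (hij : i ≠ j)
    (c : B) : Tr B i j hij c ∈ semiInv u B :=
  ⟨1, fun σ g => by rw [pt_mul_Tr, mul_one]⟩

theorem Dhom_mem_semiInv (u : (OG n K)ˣ) (B : Type u) [CommRing B] (k : Fin n) (s : Bˣ) :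
    Dhom B k s ∈ semiInv u B := by
  obtain ⟨e, he⟩ := exists_exp u k
  exact ⟨((s ^ e : Bˣ) : B), fun σ g => he σ g s⟩

theorem semiInv_top (u : (OG n K)ˣ) (F : Type u) [Field F] (h : GLn n F) : h ∈ semiInv u F :=
  mem_of_local _ (Tr_mem_semiInv u F) (Dhom_mem_semiInv u F) h

open LaurentPolynomial in
/-- the exponents do not depend on the index -/
theorem exp_indep (u : (OG n K)ˣ) (i k : Fin n) (ei ek : ℤ)
    (hi : ∀ {B : Type u} [CommRing B] (σ : K →+* B) (g : GLn n B) (s : Bˣ),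
      pt σ (g * Dhom B i s) (u : OG n K) = pt σ g (u : OG n K) * ((s ^ ei : Bˣ) : B))
    (hk : ∀ {B : Type u} [CommRing B] (σ : K →+* B) (g : GLn n B) (s : Bˣ),
      pt σ (g * Dhom B k s) (u : OG n K) = pt σ g (u : OG n K) * ((s ^ ek : Bˣ) : B)) :
    ei = ek := by
  let L := LaurentPolynomial (OG n K)
  let F := FractionRing L
  let φ : L →+* F := algebraMap L F
  have hφ : Function.Injective φ := IsFractionRing.injective L F
  let s : Fˣ := Units.map (φ : L →* F) (Tu (OG n K) 1)
  have hs : ∀ e : ℤ, ((s ^ e : Fˣ) : F) = φ (T e) := by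
    intro e
    show ((Units.map (φ : L →* F) (Tu (OG n K) 1)) ^ e : Fˣ).val = _
    rw [← map_zpow, Tu_zpow]
    rfl
  let σ₀ : K →+* F := φ.comp ((LaurentPolynomial.C : OG n K →+* L).comp (algebraMap K (OG n K)))
  let w : GLn n F := Wp F (Equiv.swap i k)
  obtain ⟨lw, hlw⟩ := semiInv_top u F w
  obtain ⟨lw', hlw'⟩ := semiInv_top u F w⁻¹
  have hc : IsUnit (pt σ₀ (1 : GLn n F) (u : OG n K)) := isUnit_pt _ _ u
  have h1 : pt σ₀ (1 : GLn n F) (u : OG n K) =
      pt σ₀ (1 : GLn n F) (u : OG n K) * lw * lw' := by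
    have := hlw' σ₀ (1 * w)
    rw [hlw σ₀ 1, mul_assoc, mul_inv_cancel, mul_one] at this
    exact this
  have h2 : pt σ₀ (1 * Dhom F k s) (u : OG n K) =
      pt σ₀ (1 : GLn n F) (u : OG n K) * lw * ((s ^ ei : Fˣ) : F) * lw' := by
    rw [← conj_Dhom F i k s]
    have e1 : (1 : GLn n F) * (w * Dhom F i s * w⁻¹) = ((1 * w) * Dhom F i s) * w⁻¹ := by
      rw [mul_assoc, mul_assoc, mul_assoc]
    show pt σ₀ (1 * (w * Dhom F i s * w⁻¹)) (u : OG n K) = _
    rw [e1, hlw' σ₀, hi σ₀, hlw σ₀]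
  rw [hk σ₀] at h2
  have h3 : ((s ^ ek : Fˣ) : F) = ((s ^ ei : Fˣ) : F) := by
    have h4 : pt σ₀ (1 : GLn n F) (u : OG n K) * ((s ^ ek : Fˣ) : F) =
        pt σ₀ (1 : GLn n F) (u : OG n K) * ((s ^ ei : Fˣ) : F) := by
      rw [h2]
      calc pt σ₀ (1 : GLn n F) (u : OG n K) * lw * ((s ^ ei : Fˣ) : F) * lw'
          = (pt σ₀ (1 : GLn n F) (u : OG n K) * lw * lw') * ((s ^ ei : Fˣ) : F) := by ring
        _ = _ := by rw [← h1]
    exact hc.mul_left_cancel h4
  rw [hs, hs] at h3
  exact (T_injective (OG n K) (hφ h3)).symm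

theorem Tr_mem_detInv (u : (OG n K)ˣ) (e : ℤ) (B : Type u) [CommRing B] (i j : Fin n)
    (hij : i ≠ j) (c : B) : Tr B i j hij c ∈ detInv u e B := by
  intro σ g
  rw [pt_mul_Tr, det_Tr, _root_.one_zpow, Units.val_one, mul_one]

/-- Units of the coordinate ring of `GL_n` over a domain. -/
theorem unit_eq (hn : 0 < n) (u : (OG n K)ˣ) :
    ∃ (c : Kˣ) (e : ℤ), (u : OG n K) =
      algebraMap K (OG n K) c * ((Matrix.GeneralLinearGroup.det (Ggen n K) ^ e : (OG n K)ˣ) :
        OG n K) := by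
  obtain ⟨e, he⟩ := exists_exp u ⟨0, hn⟩
  have hD : ∀ (B : Type u) [CommRing B] (k : Fin n) (s : Bˣ), Dhom B k s ∈ detInv u e B := by
    intro B _ k s σ g
    obtain ⟨ek, hek⟩ := exists_exp u k
    have : e = ek := exp_indep u ⟨0, hn⟩ k e ek he hek
    rw [det_Dhom, this]
    exact hek σ g s
  let L := LaurentPolynomial (OG n K)
  let F := FractionRing L
  let φ : OG n K →+* F := (algebraMap L F).comp (LaurentPolynomial.C : OG n K →+* L)
  have hφ : Function.Injective φ := by
    intro a b hab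
    have h5 : (LaurentPolynomial.C a : L) = LaurentPolynomial.C b :=
      IsFractionRing.injective L F hab
    have h6 : (LaurentPolynomial.C a : L).coeff 0 = (LaurentPolynomial.C b : L).coeff 0 := by
      rw [h5]
    rw [← mul_one (LaurentPolynomial.C a), ← mul_one (LaurentPolynomial.C b),
      ← LaurentPolynomial.T_zero, coeff_C_mul_T, coeff_C_mul_T, if_pos rfl, if_pos rfl] at h6
    exact h6
  have hall : ∀ h : GLn n F, h ∈ detInv u e F :=
    fun h => mem_of_local _ (Tr_mem_detInv u e F) (hD F) h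
  have h1 := hall (Matrix.GeneralLinearGroup.map φ (Ggen n K)) (φ.comp (algebraMap K (OG n K))) 1
  rw [one_mul, ← comp_pt_apply, pt_Ggen, RingHom.id_apply] at h1
  -- the constant
  have h2 : pt (φ.comp (algebraMap K (OG n K))) (1 : GLn n F) (u : OG n K) =
      φ (algebraMap K (OG n K) (pt (RingHom.id K) (1 : GLn n K) (u : OG n K))) := by
    rw [comp_pt_apply, comp_pt_apply, map_one, map_one]
    rfl
  have hcu : IsUnit (pt (RingHom.id K) (1 : GLn n K) (u : OG n K)) := isUnit_pt _ _ u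
  refine ⟨hcu.unit, e, ?_⟩
  apply hφ
  rw [h1, h2, map_mul, Matrix.GeneralLinearGroup.map_det, ← map_zpow]
  rfl

end Domain

end Groth.Agent.Lib.Helper6.GLUnits
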