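import Mathlib
import Groth.Agent.Lib.Helper6.GLUnits.Domain

set_option linter.unusedSectionVars false
set_option linter.unusedVariables false
set_option autoImplicit false
set_option maxHeartbeats 400000

noncomputable section

namespace Groth.Agent.Lib.Helper6.GLUnits

open Groth.Agent.Lib.Helper6.GLChar LaurentPolynomial

universe u

variable {A : Type u} [CommRing A] {B : Type u} [CommRing B]

/-- coefficientwise map of Laurent polynomials -/
def lmap (f : A →+* B) : A[T;T⁻¹] →+* B[T;T⁻¹] :=
  LaurentPolynomial.eval₂ ((LaurentPolynomial.C : B →+* B[T;T⁻¹]).comp f) (Tu B 1)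

theorem lmap_C_mul_T (f : A →+* B) (a : A) (e : ℤ) :
    lmap f (C a * T e) = C (f a) * T e := by
  unfold lmap
  rw [LaurentPolynomial.eval₂_C_mul_T, Tu_zpow, Tu_val]
  rfl

theorem lmap_C (f : A →+* B) (a : A) : lmap f (C a) = C (f a) := by
  have := lmap_C_mul_T f a 0
  rwa [T_zero, mul_one, T_zero, mul_one] at this

theorem lmap_T (f : A →+* B) (e : ℤ) : lmap f (T e : A[T;T⁻¹]) = T e := by
  have := lmap_C_mul_T f 1 e
  rwa [map_one, map_one, one_mul, map_one, one_mul] at this

theorem coeff_lmap (f : A →+* B) (p : A[T;T⁻¹]) (i : ℤ) :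
    (lmap f p).coeff i = f (p.coeff i) := by
  induction p using LaurentPolynomial.induction_on' with
  | add p q hp hq =>
    rw [map_add, AddMonoidAlgebra.coeff_add, Finsupp.add_apply, hp, hq,
      AddMonoidAlgebra.coeff_add, Finsupp.add_apply, map_add]
  | C_mul_T n a =>
    rw [lmap_C_mul_T, coeff_C_mul_T, coeff_C_mul_T]
    split_ifs
    · rfl
    · rw [map_zero]

theorem map_Tu (f : A →+* B) :
    Units.map ((lmap f : A[T;T⁻¹] →+* B[T;T⁻¹]) : A[T;T⁻¹] →* B[T;T⁻¹]) (Tu A 1) = Tu B 1 := by
  apply Units.ext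
  show lmap f (T 1) = T 1
  exact lmap_T f 1

theorem laurent_eq_of_coeff (p : A[T;T⁻¹]) (e : ℤ) (h : ∀ i, i ≠ e → p.coeff i = 0) :
    p = C (p.coeff e) * T e := by
  have : ∀ i, p.coeff i = (C (p.coeff e) * T e : A[T;T⁻¹]).coeff i := by
    intro i
    rw [coeff_C_mul_T]
    split_ifs with hi
    · rw [hi]
    · exact h i (Ne.symm hi)
  have h2 : p.coeff = (C (p.coeff e) * T e : A[T;T⁻¹]).coeff := Finsupp.ext this
  exact AddMonoidAlgebra.coeff_injective h2

/-- units of the Laurent polynomial ring over a reduced ring with only trivial idempotents are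
monomials -/
theorem laurent_unit_reduced [IsReduced A] [Nontrivial A]
    (hconn : ∀ e : A, IsIdempotentElem e → e = 0 ∨ e = 1) (w : A[T;T⁻¹]) (hw : IsUnit w) :
    ∃ (c : Aˣ) (e : ℤ), w = C (c : A) * T e := by
  classical
  -- local structure at each prime
  have hloc : ∀ p : Ideal A, p.IsPrime → ∃ e : ℤ, w.coeff e ∉ p ∧ ∀ i, i ≠ e → w.coeff i ∈ p := by
    intro p hp
    have hu : IsUnit (lmap (Ideal.Quotient.mk p) w) := hw.map _
    obtain ⟨c, e, hce⟩ := laurent_unit _ hu
    have hc : c ≠ 0 := by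
      rintro rfl
      rw [map_zero, zero_mul] at hce
      rw [hce] at hu
      exact not_isUnit_zero hu
    refine ⟨e, ?_, ?_⟩
    · intro hmem
      have h1 := coeff_lmap (Ideal.Quotient.mk p) w e
      rw [hce, coeff_C_mul_T, if_pos rfl] at h1
      rw [Ideal.Quotient.eq_zero_iff_mem.mpr hmem] at h1
      exact hc h1
    · intro i hi
      have h1 := coeff_lmap (Ideal.Quotient.mk p) w i
      rw [hce, coeff_C_mul_T, if_neg (Ne.symm hi)] at h1
      exact Ideal.Quotient.eq_zero_iff_mem.mp h1.symm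
  -- orthogonality
  have horth : ∀ i j, i ≠ j → w.coeff i * w.coeff j = 0 := by
    intro i j hij
    apply IsNilpotent.eq_zero
    rw [← mem_nilradical, nilradical_eq_sInf, Ideal.mem_sInf]
    intro p hp
    obtain ⟨e, -, he⟩ := hloc p hp
    by_cases hie : i = e
    · have : j ≠ e := fun h => hij (hie.trans h.symm)
      exact p.mul_mem_left _ (he j this)
    · exact p.mul_mem_right _ (he i hie)
  -- the coefficients generate the unit ideal
  let S : Finset ℤ := w.coeff.support
  have htop : Ideal.span (Set.range (fun i : S => w.coeff (i : ℤ))) = ⊤ := by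
    by_contra hne
    obtain ⟨M, hM, hle⟩ := Ideal.exists_le_maximal _ hne
    obtain ⟨e, he, -⟩ := hloc M hM.isPrime
    apply he
    by_cases heS : e ∈ S
    · exact hle (Ideal.subset_span ⟨⟨e, heS⟩, rfl⟩)
    · have : w.coeff e = 0 := Finsupp.notMem_support_iff.mp heS
      rw [this]; exact M.zero_mem
  have h1 : (1 : A) ∈ Ideal.span (Set.range (fun i : S => w.coeff (i : ℤ))) := by
    rw [htop]; trivial
  obtain ⟨cf, hcf⟩ := (Ideal.mem_span_range_iff_exists_fun).mp h1
  let x : S → A := fun i => cf i * w.coeff (i : ℤ)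
  have hx : ∀ i j : S, i ≠ j → x i * x j = 0 := by
    intro i j hij
    have hij' : (i : ℤ) ≠ (j : ℤ) := fun h => hij (Subtype.ext h)
    show cf i * w.coeff (i : ℤ) * (cf j * w.coeff (j : ℤ)) = 0
    calc cf i * w.coeff (i : ℤ) * (cf j * w.coeff (j : ℤ))
        = cf i * cf j * (w.coeff (i : ℤ) * w.coeff (j : ℤ)) := by ring
      _ = 0 := by rw [horth _ _ hij', mul_zero]
  have hidem : ∀ i : S, IsIdempotentElem (x i) := by
    intro i
    have h2 : x i = x i * ∑ j : S, x j := by rw [hcf, mul_one]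
    rw [Finset.mul_sum, Finset.sum_eq_single i (fun j _ hj => hx i j (Ne.symm hj))
      (fun h => absurd (Finset.mem_univ i) h)] at h2
    exact h2.symm
  have hex : ∃ e : S, x e = 1 := by
    by_contra hno
    push Not at hno
    have : ∑ j : S, x j = 0 := Finset.sum_eq_zero (fun j _ =>
      (hconn _ (hidem j)).resolve_right (hno j))
    rw [hcf] at this
    exact one_ne_zero this
  obtain ⟨e, he⟩ := hex
  have hunit : IsUnit (w.coeff (e : ℤ)) := IsUnit.of_mul_eq_one (cf e) (by rw [mul_comm]; exact he)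
  have hzero : ∀ i : ℤ, i ≠ (e : ℤ) → w.coeff i = 0 := by
    intro i hi
    calc w.coeff i = w.coeff i * (cf e * w.coeff (e : ℤ)) := by
          show _ = _ * x e
          rw [he, mul_one]
      _ = cf e * (w.coeff i * w.coeff (e : ℤ)) := by ring
      _ = 0 := by rw [horth _ _ hi, mul_zero]
  refine ⟨hunit.unit, (e : ℤ), ?_⟩
  rw [IsUnit.unit_spec]
  exact laurent_eq_of_coeff w _ hzero

end Groth.Agent.Lib.Helper6.GLUnits
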