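import Mathlib
import Groth.Agent.Lib.Helper6.GLUnits.Field
import Groth.Agent.Lib.Helper6.GLUnits.LaurentRed

set_option linter.unusedSectionVars false
set_option linter.unusedVariables false
set_option autoImplicit false
set_option maxHeartbeats 400000

noncomputable section

namespace Groth.Agent.Lib.Helper6.GLUnits

open Matrix Groth.Agent.Lib.Helper6.GLChar LaurentPolynomial

universe u

variable {n : ℕ}

/-- the substitution `diag(T, 1, …, 1)` -/
def phiD (A : Type u) [CommRing A] (i₀ : Fin n) : OG n A →+* A[T;T⁻¹] :=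
  pt (LaurentPolynomial.C : A →+* A[T;T⁻¹]) (Dhom (A[T;T⁻¹]) i₀ (Tu A 1))

theorem phiD_K (A : Type u) [CommRing A] (i₀ : Fin n) (a : A) :
    phiD A i₀ (algebraMap A (OG n A) a) = C a := pt_K _ _ a

theorem phiD_det (A : Type u) [CommRing A] (i₀ : Fin n) :
    Units.map ((phiD A i₀ : OG n A →+* A[T;T⁻¹]) : OG n A →* A[T;T⁻¹])
      (Matrix.GeneralLinearGroup.det (Ggen n A)) = Tu A 1 := by
  apply Units.ext
  show phiD A i₀ ((Matrix.GeneralLinearGroup.det (Ggen n A) : (OG n A)ˣ) : OG n A) = T 1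
  rw [det_Ggen, phiD, pt_algebraMap, ptP_det]
  have := congrArg Units.val (det_Dhom (A[T;T⁻¹]) i₀ (Tu A 1))
  rw [Matrix.GeneralLinearGroup.val_det_apply] at this
  exact this

variable {A : Type u} [CommRing A] {κ : Type u} [CommRing κ]

/-- reduction of the coefficients -/
def red (f : A →+* κ) : OG n A →+* OG n κ :=
  pt ((algebraMap κ (OG n κ)).comp f) (Ggen n κ)

theorem red_K (f : A →+* κ) (a : A) :
    red (n := n) f (algebraMap A (OG n A) a) = algebraMap κ (OG n κ) (f a) := pt_K _ _ a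

theorem phiD_red (f : A →+* κ) (i₀ : Fin n) :
    (phiD κ i₀).comp (red f) = (lmap f).comp (phiD A i₀) := by
  unfold phiD red
  rw [comp_pt, comp_pt, map_pt_Ggen, map_Dhom]
  have e1 : (pt (LaurentPolynomial.C : κ →+* κ[T;T⁻¹]) (Dhom (κ[T;T⁻¹]) i₀ (Tu κ 1))).comp
      ((algebraMap κ (OG n κ)).comp f) = (LaurentPolynomial.C : κ →+* κ[T;T⁻¹]).comp f := by
    rw [← RingHom.comp_assoc, pt_comp_algebraMap]
  have e2 : (lmap f).comp (LaurentPolynomial.C : A →+* A[T;T⁻¹]) =
      (LaurentPolynomial.C : κ →+* κ[T;T⁻¹]).comp f := by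
    apply RingHom.ext
    intro a
    exact lmap_C f a
  have e3 : Units.map ((lmap f : A[T;T⁻¹] →+* κ[T;T⁻¹]) : A[T;T⁻¹] →* κ[T;T⁻¹]) (Tu A 1) =
      Tu κ 1 := map_Tu f
  rw [e1, e2, e3]

theorem red_algebraMap (f : A →+* κ) (p : PX n A) :
    red f (algebraMap (PX n A) (OG n A) p) =
      algebraMap (PX n κ) (OG n κ) (MvPolynomial.map f p) := by
  have : (red (n := n) f).comp (algebraMap (PX n A) (OG n A)) =
      (algebraMap (PX n κ) (OG n κ)).comp (MvPolynomial.map f) := by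
    apply MvPolynomial.ringHom_ext
    · intro a
      rw [RingHom.comp_apply, RingHom.comp_apply, MvPolynomial.map_C, ← algebraMap_K,
        ← algebraMap_K, red_K]
    · rintro ⟨i, j⟩
      rw [RingHom.comp_apply, RingHom.comp_apply, MvPolynomial.map_X]
      unfold red
      rw [pt_X, Ggen_apply]
  exact congrArg (fun φ => φ p) this

/-- Units of the coordinate ring of `GL_n` over a reduced ring with only trivial idempotents. -/
theorem unit_eq_reduced [IsReduced A] [Nontrivial A]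
    (hconn : ∀ e : A, IsIdempotentElem e → e = 0 ∨ e = 1) (hn : 0 < n) (u : (OG n A)ˣ) :
    ∃ (c : Aˣ) (e : ℤ), u = Units.map ((algebraMap A (OG n A) : A →+* OG n A) : A →* OG n A) c *
      Matrix.GeneralLinearGroup.det (Ggen n A) ^ e := by
  classical
  let i₀ : Fin n := ⟨0, hn⟩
  let U := Units.map ((phiD A i₀ : OG n A →+* A[T;T⁻¹]) : OG n A →* A[T;T⁻¹])
  obtain ⟨c, e, hce⟩ := laurent_unit_reduced hconn (phiD A i₀ (u : OG n A)) (u.isUnit.map _)
  let a : (OG n A)ˣ := Units.map ((algebraMap A (OG n A) : A →+* OG n A) : A →* OG n A) c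
  let d : (OG n A)ˣ := Matrix.GeneralLinearGroup.det (Ggen n A)
  let v : (OG n A)ˣ := u * a⁻¹ * d ^ (-e)
  have hUa : U a = Units.map ((LaurentPolynomial.C : A →+* A[T;T⁻¹]) : A →* A[T;T⁻¹]) c := by
    apply Units.ext
    exact phiD_K A i₀ c
  have hUd : U d = Tu A 1 := phiD_det A i₀
  have hUu : U u = Units.map ((LaurentPolynomial.C : A →+* A[T;T⁻¹]) : A →* A[T;T⁻¹]) c *
      (Tu A 1) ^ e := by
    apply Units.ext
    rw [Units.val_mul, Tu_zpow, Tu_val]
    exact hce
  have hUv : U v = 1 := by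
    show U (u * a⁻¹ * d ^ (-e)) = 1
    rw [map_mul, map_mul, map_inv, map_zpow, hUa, hUd, hUu, _root_.zpow_neg,
      mul_comm (Units.map _ c), mul_inv_cancel_right, mul_inv_cancel]
  have hφv : phiD A i₀ (v : OG n A) = 1 := congrArg Units.val hUv
  -- at every prime the reduction of `v` is one
  have hprime : ∀ p : Ideal A, p.IsPrime → red (Ideal.Quotient.mk p) (v : OG n A) = 1 := by
    intro p hp
    haveI : p.IsPrime := hp
    haveI : IsDomain (A ⧸ p) := Ideal.Quotient.isDomain p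
    obtain ⟨cp, ep, hcp⟩ := unit_eq hn
      (Units.map ((red (n := n) (Ideal.Quotient.mk p) : OG n A →+* OG n (A ⧸ p)) :
        OG n A →* OG n (A ⧸ p)) v)
    have hcp' : red (Ideal.Quotient.mk p) (v : OG n A) =
        algebraMap (A ⧸ p) (OG n (A ⧸ p)) cp *
          ((Matrix.GeneralLinearGroup.det (Ggen n (A ⧸ p)) ^ ep : (OG n (A ⧸ p))ˣ) :
            OG n (A ⧸ p)) := hcp
    have h1 : phiD (A ⧸ p) i₀ (red (Ideal.Quotient.mk p) (v : OG n A)) = 1 := by
      have := congrArg (fun φ => φ (v : OG n A)) (phiD_red (Ideal.Quotient.mk p) i₀)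
      simp only [RingHom.comp_apply] at this
      rw [this, hφv, map_one]
    have h2 : phiD (A ⧸ p) i₀ (((Matrix.GeneralLinearGroup.det (Ggen n (A ⧸ p)) ^ ep :
        (OG n (A ⧸ p))ˣ) : OG n (A ⧸ p))) = T ep := by
      have h3 : (Units.map ((phiD (A ⧸ p) i₀ : OG n (A ⧸ p) →+* (A ⧸ p)[T;T⁻¹]) :
          OG n (A ⧸ p) →* (A ⧸ p)[T;T⁻¹]) (Matrix.GeneralLinearGroup.det (Ggen n (A ⧸ p)))) ^ ep =
          (Tu (A ⧸ p) 1) ^ ep := by rw [phiD_det (A ⧸ p) i₀]
      rw [← map_zpow, Tu_zpow] at h3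
      exact congrArg Units.val h3
    rw [hcp', map_mul, phiD_K, h2] at h1
    have h4 : (C (cp : A ⧸ p) * T ep : (A ⧸ p)[T;T⁻¹]).coeff ep =
        (C (1 : A ⧸ p) * T 0 : (A ⧸ p)[T;T⁻¹]).coeff ep := by
      rw [h1, map_one, one_mul, T_zero]
    rw [coeff_C_mul_T, coeff_C_mul_T, if_pos rfl] at h4
    have hep : ep = 0 := by
      by_contra hne
      rw [if_neg (Ne.symm hne)] at h4
      exact cp.ne_zero h4
    rw [hep, if_pos rfl] at h4
    rw [hcp', hep, h4, map_one, zpow_zero, Units.val_one, mul_one]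
  -- hence `v = 1`
  have hv1 : (v : OG n A) = 1 := by
    obtain ⟨N, f, hf⟩ := IsLocalization.Away.surj (Dt n A) ((v : OG n A) - 1)
    have hf0 : f = 0 := by
      ext m
      rw [MvPolynomial.coeff_zero]
      apply IsNilpotent.eq_zero
      rw [← mem_nilradical, nilradical_eq_sInf, Ideal.mem_sInf]
      intro p hp
      haveI : p.IsPrime := hp
      haveI : IsDomain (A ⧸ p) := Ideal.Quotient.isDomain p
      have h1 : red (Ideal.Quotient.mk p) (algebraMap (PX n A) (OG n A) f) = 0 := by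
        rw [← hf, map_mul, map_sub, hprime p hp, map_one, sub_self, zero_mul]
      rw [red_algebraMap] at h1
      have h2 : MvPolynomial.map (Ideal.Quotient.mk p) f = 0 := by
        apply algebraMap_PX_injective (n := n) (K := A ⧸ p)
        rw [h1, map_zero]
      have h3 := congrArg (MvPolynomial.coeff m) h2
      rw [MvPolynomial.coeff_map, MvPolynomial.coeff_zero] at h3
      exact Ideal.Quotient.eq_zero_iff_mem.mp h3
    rw [hf0, map_zero] at hf
    have hu : IsUnit (algebraMap (PX n A) (OG n A) (Dt n A) ^ N) :=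
      (IsLocalization.Away.algebraMap_isUnit (Dt n A)).pow N
    have := (hu.mul_left_eq_zero).mp hf
    exact sub_eq_zero.mp this
  have hv : v = 1 := Units.ext hv1
  refine ⟨c, e, ?_⟩
  have h5 : u * a⁻¹ * d ^ (-e) = 1 := hv
  rw [_root_.zpow_neg, mul_inv_eq_one, mul_inv_eq_iff_eq_mul] at h5
  rw [h5, mul_comm]

end Groth.Agent.Lib.Helper6.GLUnits
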