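import Mathlib
import Groth.Agent.Lib.Helper6.GLUnits.Reduced

set_option linter.unusedSectionVars false
set_option linter.unusedVariables false
set_option autoImplicit false
set_option maxHeartbeats 400000

noncomputable section

namespace Groth.Agent.Lib.Helper6.GLUnits

open Matrix Groth.Agent.Lib.Helper6.GLChar LaurentPolynomial

universe u

variable {n : ℕ} {A : Type u} [CommRing A]

theorem unit_D_eq :
    (IsLocalization.Away.algebraMap_isUnit (S := OG n A) (Dt n A)).unit =
      Matrix.GeneralLinearGroup.det (Ggen n A) := by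
  apply Units.ext
  rw [IsUnit.unit_spec, det_Ggen]

theorem phiD_X (i₀ : Fin n) :
    phiD A i₀ (algebraMap (PX n A) (OG n A) (MvPolynomial.X (i₀, i₀))) = T 1 := by
  unfold phiD
  rw [pt_X]
  show ((Dhom (A[T;T⁻¹]) i₀ (Tu A 1) : GLn n (A[T;T⁻¹])) :
    Matrix (Fin n) (Fin n) (A[T;T⁻¹])) i₀ i₀ = T 1
  rw [Dhom_val, Matrix.diagonal_apply_eq, Pi.mulSingle_eq_same, Tu_val]

theorem phiD_det_zpow (i₀ : Fin n) (e : ℤ) :
    phiD A i₀ ((Matrix.GeneralLinearGroup.det (Ggen n A) ^ e : (OG n A)ˣ) : OG n A) = T e := by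
  have h3 : (Units.map ((phiD A i₀ : OG n A →+* A[T;T⁻¹]) : OG n A →* A[T;T⁻¹])
      (Matrix.GeneralLinearGroup.det (Ggen n A))) ^ e = (Tu A 1) ^ e := by rw [phiD_det A i₀]
  rw [← map_zpow, Tu_zpow] at h3
  exact congrArg Units.val h3

theorem main (A : Type u) [CommRing A] [Nontrivial A]
    (hconn : ∀ e : A, IsIdempotentElem e → e = 0 ∨ e = 1) (n : ℕ) (hn : 0 < n)
    (hinj : Function.Injective (fun p : Aˣ × ℤ =>
        Units.map (algebraMap A (Localization.Away (Matrix.mvPolynomialX (Fin n) (Fin n) A).det)).toMonoidHom p.1 *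
          (IsLocalization.Away.algebraMap_isUnit (S := Localization.Away (Matrix.mvPolynomialX (Fin n) (Fin n) A).det)
            (Matrix.mvPolynomialX (Fin n) (Fin n) A).det).unit ^ p.2)) :
    Function.Bijective (fun p : Aˣ × ℤ =>
        Units.map (algebraMap A (Localization.Away (Matrix.mvPolynomialX (Fin n) (Fin n) A).det)).toMonoidHom p.1 *
          (IsLocalization.Away.algebraMap_isUnit (S := Localization.Away (Matrix.mvPolynomialX (Fin n) (Fin n) A).det)
            (Matrix.mvPolynomialX (Fin n) (Fin n) A).det).unit ^ p.2) ↔ IsReduced A := by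
  constructor
  · rintro ⟨-, hsurj⟩
    rw [isReduced_iff_pow_one_lt 2 (by norm_num)]
    intro ε hε
    let i₀ : Fin n := ⟨0, hn⟩
    let y : OG n A := algebraMap (PX n A) (OG n A) (MvPolynomial.C ε * MvPolynomial.X (i₀, i₀))
    have hy : y * y = 0 := by
      show algebraMap (PX n A) (OG n A) _ * algebraMap (PX n A) (OG n A) _ = 0
      rw [← map_mul]
      have : (MvPolynomial.C ε * MvPolynomial.X (i₀, i₀) : PX n A) *
          (MvPolynomial.C ε * MvPolynomial.X (i₀, i₀)) =
          MvPolynomial.C (ε ^ 2) * (MvPolynomial.X (i₀, i₀) * MvPolynomial.X (i₀, i₀)) := by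
        rw [map_pow]; ring
      rw [this, hε, map_zero, zero_mul, map_zero]
    let w : (OG n A)ˣ := ⟨1 + y, 1 - y, by ring_nf; rw [pow_two, hy, sub_zero],
      by ring_nf; rw [pow_two, hy, sub_zero]⟩
    obtain ⟨⟨a, e⟩, hae⟩ := hsurj w
    have hae' : Units.map (algebraMap A (OG n A)).toMonoidHom a *
        (IsLocalization.Away.algebraMap_isUnit (S := OG n A) (Dt n A)).unit ^ e = w := hae
    have h1 : phiD A i₀ ((Units.map (algebraMap A (OG n A)).toMonoidHom a *
        (IsLocalization.Away.algebraMap_isUnit (S := OG n A) (Dt n A)).unit ^ e : (OG n A)ˣ) :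
          OG n A) = phiD A i₀ (w : OG n A) := by rw [hae']
    rw [Units.val_mul, map_mul] at h1
    have h2 : phiD A i₀ ((Units.map (algebraMap A (OG n A)).toMonoidHom a : (OG n A)ˣ) : OG n A) =
        C (a : A) := phiD_K A i₀ a
    have h3 : phiD A i₀ (((IsLocalization.Away.algebraMap_isUnit (S := OG n A) (Dt n A)).unit ^ e :
        (OG n A)ˣ) : OG n A) = T e := by
      rw [unit_D_eq]
      exact phiD_det_zpow i₀ e
    have h4 : phiD A i₀ (w : OG n A) = C 1 * T 0 + C ε * T 1 := by
      show phiD A i₀ (1 + y) = _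
      rw [map_add, map_one, map_one, T_zero, mul_one]
      show 1 + phiD A i₀ (algebraMap (PX n A) (OG n A)
        (MvPolynomial.C ε * MvPolynomial.X (i₀, i₀))) = _
      rw [map_mul, map_mul, phiD_X, ← algebraMap_K, phiD_K]
    rw [h2, h3, h4] at h1
    have c0 := congrArg (fun p : A[T;T⁻¹] => p.coeff 0) h1
    have c1 := congrArg (fun p : A[T;T⁻¹] => p.coeff 1) h1
    simp only [AddMonoidAlgebra.coeff_add, Finsupp.add_apply, coeff_C_mul_T] at c0 c1
    by_cases he0 : e = 0
    · subst he0
      simpa using c1.symm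
    · rw [if_neg he0] at c0
      simp at c0
  · intro hred
    refine ⟨hinj, ?_⟩
    intro u
    obtain ⟨c, e, hce⟩ := unit_eq_reduced hconn hn u
    refine ⟨⟨c, e⟩, ?_⟩
    show Units.map (algebraMap A (OG n A)).toMonoidHom c *
      (IsLocalization.Away.algebraMap_isUnit (S := OG n A) (Dt n A)).unit ^ e = u
    rw [unit_D_eq, hce]
    rfl

end Groth.Agent.Lib.Helper6.GLUnits
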